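import Cfsg.Agent.H690.Spor.RankRows
import Cfsg.Agent.H419.TwoTrans_m3
import Cfsg.Agent.H723.SzRow
import Cfsg.Agent.H710.VanCount
import Cfsg.Agent.RuLat.Main
import Cfsg.Agent.OddHalf.Table.OutRu
import Cfsg.Agent.Prune
set_option linter.all false
prune_inst 0x7f00000000000000000000000000000000000000000000000000000000000000000000000000000000000000000000000000000000000000000000000000000000000000000000000000000000000000003fffffffffffffffffffffffffffbeffbdffffffff
open scoped Cfsg.Agent.FastGrp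

/-!
# `Ru` : characters of defect zero for 7, 13, 29 (rank 3 on 4060 points), elements of order 14 (helper690)
-/

set_option autoImplicit false
set_option maxRecDepth 100000
set_option exponentiation.threshold 5000

namespace Cfsg.Agent.H690.Spor.Ru

open Cfsg Cfsg.Agent.H713 Cfsg.Agent.H665.NoPQ Cfsg.Agent.Lib.BitNet Cfsg.Agent.SporadicB.RuData
open Cfsg.Agent.SporadicB.RuOrder

universe u v

instance instFiniteH : Finite H := Nat.finite_of_card_ne_zero (by rw [card_H]; norm_num)

theorem orb_b : Nat.ble 1755 (popc 12 (iter [net0, net1, net2, net3, net4] 8 (Nat.pow 2 3))) = true := by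
  decide +kernel

def c3 : Fin 4060 := ⟨3, by norm_num⟩

theorem adj_c3 : (row 0).testBit 3 = true := by decide +kernel
theorem adj_b2 : (row 0).testBit 29 = false := by decide +kernel

/-- The orbits of the stabilizer in `H` and of the subgroup `H1`. -/
theorem orbit_eq (x : Fin 4060) : MulAction.orbit (MulAction.stabilizer H b1) x = MulAction.orbit H1 x := by
  ext y
  constructor
  · rintro ⟨⟨⟨g, hg⟩, hgs⟩, hy⟩
    exact ⟨⟨g, hg, hgs⟩, hy⟩
  · rintro ⟨⟨g, hg, hgs⟩, hy⟩
    exact ⟨⟨⟨g, hg⟩, hgs⟩, hy⟩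

/-- adjacency to the base point is constant on the orbits -/
theorem adj_orbit {x y : Fin 4060} (h : y ∈ MulAction.orbit H1 x) : (row 0).testBit y = (row 0).testBit x := by
  obtain ⟨⟨g, hg, hgs⟩, hy⟩ := h
  have h1 := (mem_Aut.1 hg) b1 x
  have h2 : g b1 = b1 := hgs
  have h3 : g x = y := hy
  rw [h2, h3] at h1
  exact h1

theorem ncards : (MulAction.orbit H1 c3).ncard = 1755 ∧ (MulAction.orbit H1 b2).ncard = 2304 := by
  have h1 : 2304 ≤ Nat.card (MulAction.orbit H1 b2) := orbit_card_ge (K := 12) (k := 8) gens1 orb2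
  have h2 : 1755 ≤ Nat.card (MulAction.orbit H1 c3) := orbit_card_ge (K := 12) (k := 8) gens1 orb_b
  rw [Nat.card_coe_set_eq] at h1 h2
  have hb : ∀ x : Fin 4060, x ≠ b1 → b1 ∉ MulAction.orbit H1 x := by
    rintro x hx ⟨⟨g, hg, hgs⟩, hy⟩
    have h3 : g x = b1 := hy
    have h4 : g b1 = b1 := hgs
    exact hx (g.injective (h3.trans h4.symm))
  have hd : Disjoint (MulAction.orbit H1 b2) (MulAction.orbit H1 c3) := by
    rw [Set.disjoint_left]
    intro y hy hy'
    have h3 := adj_orbit hy
    have h4 := adj_orbit hy'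
    have h5 : (row 0).testBit (c3 : ℕ) = true := adj_c3
    have h6 : (row 0).testBit (b2 : ℕ) = false := adj_b2
    rw [h3, h5, h6] at h4
    exact Bool.false_ne_true h4
  have hd1 : Disjoint ({b1} : Set (Fin 4060)) (MulAction.orbit H1 b2 ∪ MulAction.orbit H1 c3) := by
    rw [Set.disjoint_left]
    intro x hx hx'
    rw [Set.mem_singleton_iff] at hx
    subst hx
    rcases hx' with h3 | h3
    · exact hb b2 (by decide) h3
    · exact hb c3 (by decide) h3
  have h3 : (({b1} : Set (Fin 4060)) ∪ (MulAction.orbit H1 b2 ∪ MulAction.orbit H1 c3)).ncard ≤ 4060 := by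
    refine (Set.ncard_le_card _).trans ?_
    simp
  rw [Set.ncard_union_eq hd1, Set.ncard_union_eq hd, Set.ncard_singleton] at h3
  omega

theorem r3 : ∃ R, RankThree.R3 H (Fin 4060) R 1755 2304 :=
  ⟨_, RankThree.R3.of_orbits (a := b1) (b := c3) (c := b2) isPretransitive (by decide) (by decide)
    (by rw [orbit_eq]; exact ncards.1) (by rw [orbit_eq]; exact ncards.2) (by norm_num) (by simp)⟩

theorem hasDZ {K : Type u} [Group K] (h : Spor.IsoRu K) {p : ℕ} (hp : p = 7 ∨ p = 13 ∨ p = 29) : HasDZ p K := by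
  obtain ⟨e⟩ := h
  refine HasDZ.mulEquiv (e.trans Cfsg.Agent.RuLat.Main.equiv).symm ?_
  obtain ⟨R, hR⟩ := r3
  refine hR.hasDZ (Or.inl (by decide)) ?_ ?_
  · rw [card_H]
    rcases hp with rfl | rfl | rfl
    · exact RankRows.fac (n := 1) (m := 20846592000) (by norm_num) (by norm_num) (by norm_num)
    · exact RankRows.fac (n := 1) (m := 11225088000) (by norm_num) (by norm_num) (by norm_num)
    · exact RankRows.fac (n := 1) (m := 5031936000) (by norm_num) (by norm_num) (by norm_num)
  · rcases hp with rfl | rfl | rfl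
    · rw [RankRows.fac (n := 1) (m := 580 * 1755 * 2304) (by norm_num) (by norm_num) (by norm_num)]
      decide
    · rw [RankRows.fac (n := 1) (m := 4060 * 135 * 2304) (by norm_num) (by norm_num) (by norm_num)]
      decide
    · rw [RankRows.fac (n := 1) (m := 140 * 1755 * 2304) (by norm_num) (by norm_num) (by norm_num)]
      decide

theorem exists_fourteen {K : Type u} [Group K] (h : Spor.IsoRu K) : ∃ x : K, orderOf x = 2 * 7 := by
  obtain ⟨e⟩ := h
  refine ⟨(e.trans Cfsg.Agent.RuLat.Main.equiv).symm Cfsg.Agent.OddHalf.Table.OutRu.f, ?_⟩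
  rw [MulEquiv.orderOf_eq, Cfsg.Agent.OddHalf.Table.OutRu.orderOf_f]

/-- The elements of order 14 are `VZ` elements. -/
theorem exists_vz {K : Type u} [Group K] (h : Spor.IsoRu K) : ∃ x : K, VZ K x ∧ orderOf x = 2 * 7 := by
  have : Finite K := by
    obtain ⟨e⟩ := h
    exact Finite.of_equiv _ (e.trans Cfsg.Agent.RuLat.Main.equiv).symm.toEquiv
  have : Fact (Nat.Prime 7) := ⟨by norm_num⟩
  obtain ⟨x, hx⟩ := exists_fourteen h
  exact ⟨x, HasDZ.vz (hasDZ (p := 7) h (Or.inl rfl)) (hx ▸ Dvd.intro_left _ rfl), hx⟩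

theorem good {K : Type u} [Group K] (h : Spor.IsoRu K) : LieGood.Good K := by
  obtain ⟨x, hx, ho⟩ := exists_vz h
  exact LieGood.good_of_mixed hx (a := 2) (b := 7) (by norm_num) (by norm_num) (by norm_num)
    (ho ▸ Dvd.intro _ rfl) (ho ▸ Dvd.intro_left _ rfl)

theorem evMix {K : Type u} [Group K] (h : Spor.IsoRu K) : H419.Row.EvMix K := by
  obtain ⟨x, hx, ho⟩ := exists_vz h
  exact H419.Row.evMix_of_order hx (by norm_num) (by norm_num) ho

theorem row {K : Type v} [Group K] (h : Spor.IsoRu K) : Row.{u, v} K := by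
  have : Finite K := by
    obtain ⟨e⟩ := h
    exact Finite.of_equiv _ (e.trans Cfsg.Agent.RuLat.Main.equiv).symm.toEquiv
  have : Fact (Nat.Prime 7) := ⟨by norm_num⟩
  obtain ⟨x, hx⟩ := exists_fourteen h
  exact Row.of_dz (p := 7) (by norm_num) (hasDZ h (Or.inl rfl)) (y := x) (hx ▸ Dvd.intro_left _ rfl)
    (by rw [hx]; norm_num)

end Cfsg.Agent.H690.Spor.Ru
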