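import Cfsg.Agent.TitsK.ParC_m3
import Cfsg.Agent.H665.DefZero
import Cfsg.Agent.H419.TwoTrans_m3
import Cfsg.Agent.H723.SzRow
import Cfsg.Agent.H710.VanCount
import Cfsg.Agent.FastGrp
import Cfsg.Agent.Prune
set_option linter.all false
prune_inst 0x7f00000000000000000000000000000000000000000000000000000000000000000000000000000000000000000000000000000000000000000000000000000000000000000000000000000000000000003fffffffffffffffffffffffffffbeffbdffffffff
open scoped Cfsg.Agent.FastGrp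

/-!
# The Tits group: characters of defect zero for 3 and 13, elements of order 6 (helper690)

The product of two involutions of the class of `z` is a `2`-element or of order 5.
-/

set_option autoImplicit false
set_option Elab.async false

namespace Cfsg.Agent.H690.Spor.Tits

open Cfsg Cfsg.Lie Cfsg.Agent.TitsK Cfsg.Agent.ChevalleyStructure.TwF4.Tables
open Cfsg.Agent.FourTwo.Base hiding bar bar_lt
open Cfsg.Agent.FourTwo.BN Cfsg.Agent.FourTwo.Comm Cfsg.Agent.FourTwo.Classes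
open Cfsg.Agent.H713 Cfsg.Agent.H665.NoPQ
open Cfsg.Agent.FourTwo.UCode (mulU)

universe u v

theorem conj_pow_eq {G : Type*} [Group G] {a b : G} {n : ℕ} (h : (a * b * a⁻¹) ^ n = 1) : b ^ n = 1 := by
  rw [conj_pow] at h
  have h1 : a * b ^ n = a := by simpa using congrArg (· * a) h
  simpa using h1

theorem hasDZ_aux {G : Type*} [Group G] [Finite G] {p : ℕ} (hp : p.Prime) (h2 : p ≠ 2) (h5 : p ≠ 5) (s : G)
    (hs : s * s = 1) (hc : ∀ y : G, y ^ p = 1 → y * s = s * y → y = 1)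
    (hpair : ∀ m : G, (∃ k : ℕ, (s * (m * s * m⁻¹)) ^ 2 ^ k = 1) ∨ (s * (m * s * m⁻¹)) ^ 5 = 1) : HasDZ p G := by
  have : Fact p.Prime := ⟨hp⟩
  have hc' : ¬ p ∣ Nat.card (Subgroup.centralizer ({s} : Set G)) := by
    intro hd
    obtain ⟨⟨y, hy⟩, hy'⟩ := exists_prime_orderOf_dvd_card' p hd
    rw [Subgroup.orderOf_mk] at hy'
    have h1 : y ^ p = 1 := by rw [← hy']; exact pow_orderOf_eq_one y
    have h6 := hc y h1 (Subgroup.mem_centralizer_singleton_iff.1 hy)
    rw [h6, orderOf_one] at hy'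
    exact hp.one_lt.ne hy'
  rcases Cfsg.Agent.H665.DefZero.defectZero_or p s hc' with h | ⟨g, k, hg, hk, hne, n, hn⟩
  · exact h
  · exfalso
    obtain ⟨a, ha⟩ := isConj_iff.1 hg
    obtain ⟨b, hb⟩ := isConj_iff.1 hk
    have hk2 : k⁻¹ = k := by
      rw [inv_eq_iff_mul_eq_one, ← hb]
      have : b * s * b⁻¹ * (b * s * b⁻¹) = b * (s * s) * b⁻¹ := by group
      rw [this, hs]
      group
    have e1 : a⁻¹ * (g * k⁻¹) * (a⁻¹)⁻¹ = s * ((a⁻¹ * b) * s * (a⁻¹ * b)⁻¹) := by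
      rw [hk2, ← ha, ← hb]
      group
    have hcase := hpair (a⁻¹ * b)
    rw [← e1] at hcase
    have hn0 : n ≠ 0 := by
      rintro rfl
      rw [pow_zero, orderOf_eq_one_iff] at hn
      exact hne hn
    have hpd : p ∣ orderOf (g * k⁻¹) := by
      rw [hn]
      exact dvd_pow_self p hn0
    rcases hcase with ⟨j, hj⟩ | h
    · have h1 := conj_pow_eq hj
      have h3 := hpd.trans (orderOf_dvd_of_pow_eq_one h1)
      exact h2 ((Nat.prime_dvd_prime_iff_eq hp Nat.prime_two).1 (hp.dvd_of_dvd_pow h3))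
    · have h1 := conj_pow_eq h
      have h3 := hpd.trans (orderOf_dvd_of_pow_eq_one h1)
      exact h5 ((Nat.prime_dvd_prime_iff_eq hp (by norm_num)).1 h3)

theorem dz_of_equiv {G : Type*} [Group G] {T : Subgroup G} {X : Type*} [Group X]
    (h : Nonempty (X ≃* T)) {p : ℕ} (hT : HasDZ p T) : HasDZ p X := by
  obtain ⟨e⟩ := h
  exact HasDZ.mulEquiv e.symm hT

theorem order_of_equiv {G : Type*} [Group G] {T : Subgroup G} {X : Type*} [Group X]
    (h : Nonempty (X ≃* T)) {n : ℕ} (hT : ∃ x : T, orderOf x = n) :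
    ∃ x : X, orderOf x = n := by
  obtain ⟨e⟩ := h
  obtain ⟨x, hx⟩ := hT
  exact ⟨e.symm x, by rw [MulEquiv.orderOf_eq, hx]⟩

theorem finite_of_equiv {G : Type*} [Group G] {T : Subgroup G} {X : Type*} [Group X]
    (h : Nonempty (X ≃* T)) (hT : Finite T) : Finite X := by
  obtain ⟨e⟩ := h
  exact Finite.of_equiv _ e.symm.toEquiv

theorem nonempty_equiv {X : Type*} [Group X] (h : Cfsg.Lie.IsoTits X) : Nonempty (X ≃* ↥TT) := by
  obtain ⟨e⟩ := h
  obtain ⟨e'⟩ := Cfsg.Agent.TitsK.exists_equiv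
  exact ⟨e.trans e'⟩

theorem val_comm {G : Type*} [Group G] {T : Subgroup G} {z : G} (hz : z ∈ T) {y : T}
    (h : y * ⟨z, hz⟩ = ⟨z, hz⟩ * y) : (y : G) * z = z * y := congrArg Subtype.val h

theorem six_aux {G : Type*} [Group G] {T : Subgroup G} {d a b : G} (hd : d ∈ T) (ha : a ∈ T) (hb : b ∈ T)
    (hd2 : d * d = 1) (hd1 : d ≠ 1) (hab : a ≠ b) (hb2 : b * b = 1) (h : (a * b) ^ 3 = 1) (hc1 : d * a = a * d)
    (hc2 : d * b = b * d) : ∃ x : T, orderOf x = 2 * 3 := by
  have h3 : orderOf (a * b) = 3 := by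
    refine orderOf_eq_prime h ?_
    intro h
    apply hab
    have h1 : b⁻¹ = b := by rw [inv_eq_iff_mul_eq_one]; exact hb2
    rw [← h1]
    exact eq_inv_of_mul_eq_one_left h
  have h2 : orderOf d = 2 := orderOf_eq_prime (by rw [pow_two]; exact hd2) hd1
  have hc : Commute d (a * b) := by
    show d * (a * b) = a * b * d
    rw [← mul_assoc, hc1, mul_assoc, hc2, mul_assoc]
  have h6 : orderOf (d * (a * b)) = 2 * 3 := by
    rw [hc.orderOf_mul_eq_mul_orderOf_of_coprime, h2, h3]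
    rw [h2, h3]
    norm_num
  refine ⟨⟨d * (a * b), T.mul_mem hd (T.mul_mem ha hb)⟩, ?_⟩
  rw [Subgroup.orderOf_mk]
  exact h6

/-- the centralizer of `z` is a `{2, 5}`-group -/
theorem eq_one_of_z {g : LL} (hg : g ∈ HT) {p : ℕ} (hp : p.Prime) (h2 : p ≠ 2) (h5 : p ≠ 5) (h3 : g ^ p = 1)
    (hz : g * z * g⁻¹ = z) : g = 1 := by
  have hodd : Odd p := hp.odd_of_ne_two h2
  have hP : g ∈ Pz := mem_Pz.2 ⟨hg, hz⟩
  obtain ⟨f, h1, -, h2'⟩ := exists_lam
  have h4 : f 1 = 0 := (h2' 1 Pz.one_mem).2 E8.one_mem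
  have hpow : ∀ n : ℕ, f (g ^ n) = n * f g := by
    intro n
    induction n with
    | zero => rw [pow_zero, h4, Nat.cast_zero, zero_mul]
    | succ n ih =>
      rw [pow_succ, h1 _ (Pz.pow_mem hP n) _ hP, ih]
      push_cast
      ring
  have hE : g ∈ E8 := by
    rw [← h2' g hP]
    have h6 := hpow p
    rw [h3, h4] at h6
    obtain ⟨k, hk⟩ := hodd
    have h7 : (p : ZMod 4) = 1 ∨ (p : ZMod 4) = 3 := by
      rw [hk]
      push_cast
      generalize (k : ZMod 4) = c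
      revert c
      decide
    generalize f g = c at h6
    rcases h7 with h7 | h7 <;> rw [h7] at h6 <;> revert c <;> decide
  obtain ⟨i, q, hq, he⟩ := mem_E8.1 hE
  have h6 : ∀ q ∈ Q8, (xf ^ i)⁻¹ * q * xf ^ i ∈ Q8 := fun q hq => by
    have h6 := (Subgroup.mem_normalizer_iff.1 (norm_Q8 (Pz.inv_mem (Pz.zpow_mem xf_mem_Pz i))) q).1 hq
    rwa [inv_inv] at h6
  obtain ⟨q', hq', h7⟩ := CentOdd.pow_mul_mem h6 hq 5
  have h8 : (xf ^ i) ^ 5 = 1 := by
    rw [← zpow_natCast, ← zpow_mul, mul_comm, zpow_mul, zpow_natCast]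
    rw [show ((5 : ℕ)) = 5 from rfl, xf_pow5, one_zpow]
  rw [h8, one_mul, ← he] at h7
  have h9 : g ^ 5 = 1 := by
    rw [h7]
    refine eq_one_of_UT (Q8_le hq') hodd ?_
    rw [← h7, ← pow_mul, mul_comm, pow_mul, h3, one_pow]
  have h10 : Nat.Coprime p 5 := (Nat.coprime_primes hp (by norm_num)).2 h5
  have h11 := Nat.eq_one_of_dvd_coprimes h10 (orderOf_dvd_of_pow_eq_one h3) (orderOf_dvd_of_pow_eq_one h9)
  exact orderOf_eq_one_iff.1 h11

/-- the pairs `z`, `w z w⁻¹` -/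
theorem W_pair : (W16.all fun w => (W16.any fun v => posW v 9437184 && posW (v ++ w) 9437184) ||
    W16.any fun v => posW v 9437184 && Nat.beq (reflW v 9437184) 80 &&
      (([33, 27, 25, 24].all fun p => act (v ++ w) p == act (w0L ++ v) p) ||
        ([33, 27, 25, 24].all fun p => act (v ++ w) p == act (w0L ++ (v ++ [1, 2, 1, 2])) p))) = true := by
  decide +kernel

theorem mem_append_lt {v w : List ℕ} (hv : ∀ i ∈ v, i < 4) (hw : ∀ i ∈ w, i < 4) : ∀ i ∈ v ++ w, i < 4 := by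
  intro i hi
  rcases List.mem_append.1 hi with h | h
  · exact hv i h
  · exact hw i h

/-- The product of `z` and a conjugate. -/
theorem pair_word {w : List ℕ} (hw : w ∈ W16) : (∃ k : ℕ, (z * (nw w * z * (nw w)⁻¹)) ^ 2 ^ k = 1) ∨
    (z * (nw w * z * (nw w)⁻¹)) ^ 5 = 1 := by
  have h := W_pair
  rw [List.all_eq_true] at h
  have h1 := h w hw
  rw [Bool.or_eq_true, List.any_eq_true, List.any_eq_true] at h1
  have hwl := lt_of_mem_W16 hw
  rcases h1 with ⟨v, hv, h2⟩ | ⟨v, hv, h2⟩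
  · left
    have hvl := lt_of_mem_W16 hv
    rw [Bool.and_eq_true] at h2
    have e1 := nw_conj_ec hvl h2.1
    have e2 := nw_conj_ec (mem_append_lt hvl hwl) h2.2
    have e3 : nw v * (z * (nw w * z * (nw w)⁻¹)) * (nw v)⁻¹ = ec (reflW v 9437184) * ec (reflW (v ++ w) 9437184) := by
      rw [← e1, ← e2, nw_append]
      unfold z
      group
    have hH : nw v * (z * (nw w * z * (nw w)⁻¹)) * (nw v)⁻¹ ∈ HT := by
      have hzH := TT_le z_mem_TT
      have hvH := TT_le (nw_mem_TT hv)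
      have hwH := TT_le (nw_mem_TT hw)
      exact HT.mul_mem (HT.mul_mem hvH (HT.mul_mem hzH (HT.mul_mem (HT.mul_mem hwH hzH) (HT.inv_mem hwH))))
        (HT.inv_mem hvH)
    have e4 : nw v * (z * (nw w * z * (nw w)⁻¹)) * (nw v)⁻¹ ∈ UT := by
      refine ⟨?_, hH⟩
      rw [e3]
      exact U.mul_mem (Cfsg.Agent.TitsK.ec_mem_U _) (Cfsg.Agent.TitsK.ec_mem_U _)
    obtain ⟨k, hk⟩ := isPGroup_UT ⟨_, e4⟩
    exact ⟨k, conj_pow_eq (congrArg Subtype.val hk)⟩
  · right
    have hvl := lt_of_mem_W16 hv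
    rw [Bool.and_eq_true, Bool.and_eq_true, Bool.or_eq_true] at h2
    obtain ⟨⟨h3, h4⟩, h5⟩ := h2
    have e1 : nw v * z * (nw v)⁻¹ = zb := by
      have := nw_conj_ec hvl h3
      rw [Nat.eq_of_beq_eq_true h4, ← zb_eq] at this
      exact this
    have e2 : nw (v ++ w) * z * (nw (v ++ w))⁻¹ = zbm := by
      have e0 : w0 * zb * w0⁻¹ = zbm := by
        rw [w0_inv, ← w0_conj_zbm, ← mul_assoc, ← mul_assoc, w0_mul_self, one_mul, mul_assoc, w0_mul_self, mul_one]
      rcases h5 with h5 | h5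
      · rw [nw_eq_of_act (mem_append_lt hvl hwl) (mem_append_lt w0L_lt hvl) h5, nw_append, ← e0, ← e1]
        show w0 * nw v * z * (w0 * nw v)⁻¹ = _
        group
      · rw [nw_eq_of_act (mem_append_lt hvl hwl) (mem_append_lt w0L_lt (mem_append_lt hvl (by decide))) h5,
          nw_append, nw_append, ← e0, ← e1]
        show w0 * (nw v * nb) * z * (w0 * (nw v * nb))⁻¹ = _
        have : z = nb * z * nb⁻¹ := nb_conj_z.symm
        conv_rhs => rw [this]
        group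
    refine conj_pow_eq (a := nw v) ?_
    have e3 : nw v * (z * (nw w * z * (nw w)⁻¹)) * (nw v)⁻¹ = zb * zbm := by
      rw [← e1, ← e2, nw_append]
      group
    rw [e3]
    exact xf_pow5

theorem pair {m : LL} (hm : m ∈ HT) : (∃ k : ℕ, (z * (m * z * m⁻¹)) ^ 2 ^ k = 1) ∨ (z * (m * z * m⁻¹)) ^ 5 = 1 := by
  obtain ⟨a, ha, w, hw, b, hb, rfl⟩ := bruhat_HT hm
  have e1 : z * (a * nw w * b * z * (a * nw w * b)⁻¹) = a * (z * (nw w * z * (nw w)⁻¹)) * a⁻¹ := by
    have h1 : a * nw w * b * z * (a * nw w * b)⁻¹ = a * (nw w * (b * z * b⁻¹) * (nw w)⁻¹) * a⁻¹ := by group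
    have h2 : z = a * z * a⁻¹ := (z_central ha).symm
    rw [h1, z_central hb]
    nth_rewrite 1 [h2]
    group
  have e2 : a⁻¹ * (z * (a * nw w * b * z * (a * nw w * b)⁻¹)) * (a⁻¹)⁻¹ = z * (nw w * z * (nw w)⁻¹) := by
    rw [e1]
    group
  rcases pair_word hw with ⟨k, hk⟩ | h
  · rw [← e2] at hk
    exact Or.inl ⟨k, conj_pow_eq hk⟩
  · rw [← e2] at h
    exact Or.inr (conj_pow_eq h)

instance instFiniteTT : Finite TT := Nat.finite_of_card_ne_zero (by rw [card_TT]; norm_num)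

def zT : TT := ⟨z, z_mem_TT⟩

theorem zT_sq : zT * zT = 1 := Subtype.ext z_sq

theorem pair_T (m : TT) : (∃ k : ℕ, (zT * (m * zT * m⁻¹)) ^ 2 ^ k = 1) ∨ (zT * (m * zT * m⁻¹)) ^ 5 = 1 := by
  rcases pair (TT_le m.2) with ⟨k, hk⟩ | h
  · refine Or.inl ⟨k, Subtype.ext ?_⟩
    rw [SubmonoidClass.coe_pow]
    exact hk
  · refine Or.inr (Subtype.ext ?_)
    rw [SubmonoidClass.coe_pow]
    exact h

theorem hasDZ_TT {p : ℕ} (hp : p.Prime) (h2 : p ≠ 2) (h5 : p ≠ 5) : HasDZ p TT := by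
  refine hasDZ_aux hp h2 h5 zT zT_sq (fun y h1 hy => ?_) pair_T
  have h6 : (y : LL) * z = z * (y : LL) := val_comm z_mem_TT hy
  have h3 : (y : LL) * z * (y : LL)⁻¹ = z := by rw [h6, mul_inv_cancel_right]
  have h0 : (y : LL) ^ p = 1 := by rw [← SubmonoidClass.coe_pow, h1]; rfl
  exact Subtype.ext (eq_one_of_z (TT_le y.2) hp h2 h5 h0 h3)

/-! ### an element of order 6 -/

theorem d_comm_ya : d * ya = ya * d := by
  have h : mulU 2129920 513 = mulU 513 2129920 := by decide +kernel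
  unfold d
  rw [ya_eq, ← ec_mulU, ← ec_mulU, h]

theorem na_conj_d : na * d * na⁻¹ = d := by
  have h := nw_conj_ec (w := [0, 3]) (e := 2129920) (by decide) (by decide +kernel)
  have e : reflW [0, 3] 2129920 = 2129920 := by decide +kernel
  rw [e] at h
  exact h

theorem d_comm_yam : d * yam = yam * d := by
  have h1 := na_conj_ya
  have h2 : na * (d * ya) * na⁻¹ = na * (ya * d) * na⁻¹ := by rw [d_comm_ya]
  have h3 : na * (d * ya) * na⁻¹ = (na * d * na⁻¹) * (na * ya * na⁻¹) := by group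
  have h4 : na * (ya * d) * na⁻¹ = (na * ya * na⁻¹) * (na * d * na⁻¹) := by group
  rw [h3, h4, na_conj_d, h1] at h2
  exact h2

theorem three : (ya * yam) ^ 3 = 1 := by
  have h1 := na_conj_ya
  have h2 : yam * yam = 1 := yam_sq
  have h3 : ya * ya = 1 := ya_sq
  rw [na_inv, na_eq] at h1
  have h4 : ya * yam * ya * ya * (ya * yam * ya) = ya * yam * (ya * yam * ya) := by
    have : ya * yam * ya * ya * (ya * yam * ya) = ya * yam * (ya * ya) * (ya * yam * ya) := by group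
    rw [this, h3, mul_one]
  rw [h4] at h1
  have h5 : (ya * yam) ^ 3 = ya * yam * (ya * yam * ya) * yam := by
    rw [pow_succ, pow_two]
    group
  rw [h5, h1, h2]

theorem ya_ne_yam : ya ≠ yam := by
  intro h
  have h1 : yam ∈ UT := h ▸ ya_mem
  exact yam_ne (UT_inf_VT h1 yam_mem_VT)

theorem exists_six_TT : ∃ x : TT, orderOf x = 2 * 3 :=
  six_aux d_mem_TT ya_mem_TT yam_mem_TT d_sq d_ne ya_ne_yam yam_sq three d_comm_ya d_comm_yam

theorem hasDZ {K : Type u} [Group K] (h : Lie.IsoTits K) {p : ℕ} (hp : p.Prime) (h2 : p ≠ 2) (h5 : p ≠ 5) :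
    HasDZ p K := dz_of_equiv (nonempty_equiv h) (hasDZ_TT hp h2 h5)

theorem finite {K : Type u} [Group K] (h : Lie.IsoTits K) : Finite K :=
  finite_of_equiv (nonempty_equiv h) inferInstance

theorem exists_six {K : Type u} [Group K] (h : Lie.IsoTits K) : ∃ x : K, orderOf x = 2 * 3 :=
  order_of_equiv (nonempty_equiv h) exists_six_TT

/-- The elements of order 6 are `VZ` elements. -/
theorem exists_vz {K : Type u} [Group K] (h : Lie.IsoTits K) : ∃ x : K, VZ K x ∧ orderOf x = 2 * 3 := by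
  have : Finite K := finite h
  have : Fact (Nat.Prime 3) := ⟨by norm_num⟩
  obtain ⟨x, hx⟩ := exists_six h
  exact ⟨x, HasDZ.vz (hasDZ (p := 3) h (by norm_num) (by norm_num) (by norm_num)) (hx ▸ Dvd.intro_left _ rfl), hx⟩

theorem good {K : Type u} [Group K] (h : Lie.IsoTits K) : LieGood.Good K := by
  obtain ⟨x, hx, ho⟩ := exists_vz h
  exact LieGood.good_of_mixed hx (a := 2) (b := 3) (by norm_num) (by norm_num) (by norm_num)
    (ho ▸ Dvd.intro _ rfl) (ho ▸ Dvd.intro_left _ rfl)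

theorem evMix {K : Type u} [Group K] (h : Lie.IsoTits K) : H419.Row.EvMix K := by
  obtain ⟨x, hx, ho⟩ := exists_vz h
  exact H419.Row.evMix_of_order hx (by norm_num) (by norm_num) ho

theorem row {K : Type v} [Group K] (h : Lie.IsoTits K) : Row.{u, v} K := by
  have : Finite K := finite h
  have : Fact (Nat.Prime 3) := ⟨by norm_num⟩
  obtain ⟨x, hx⟩ := exists_six h
  exact Row.of_dz (p := 3) (by norm_num) (hasDZ h (by norm_num) (by norm_num) (by norm_num)) (y := x)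
    (hx ▸ Dvd.intro_left _ rfl) (by rw [hx]; norm_num)

end Cfsg.Agent.H690.Spor.Tits
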