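import Cfsg.Agent.H690.Spor.RankRows
import Cfsg.Agent.H419.TwoTrans_m3
import Cfsg.Agent.H723.SzRow
import Cfsg.Agent.H710.VanCount
import Cfsg.Agent.KFacts.SuzTwoB
import Cfsg.Agent.Prune
set_option linter.all false
prune_inst 0x7f00000000000000000000000000000000000000000000000000000000000000000000000000000000000000000000000000000000000000000000000000000000000000000000000000000000000000003fffffffffffffffffffffffffffbeffbdffffffff
open scoped Cfsg.Agent.FastGrp

/-!
# `Suz` : elements of order 14 (helper690)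
-/

set_option autoImplicit false
set_option maxRecDepth 100000

namespace Cfsg.Agent.H690.Spor.SuzRow

open Cfsg Cfsg.Agent.H713 Cfsg.Agent.H665.NoPQ Cfsg.Agent.KFacts.SuzLFour Cfsg.Agent.KFacts.SuzTwoB

universe u v

theorem finite {K : Type u} [Group K] (h : Spor.IsoSuz K) : Finite K := by
  have hc : Nat.card Spor.Suz = 448345497600 :=
    Cfsg.Agent.OrdDiv.table_spor Spor.Suz (.suz, 448345497600) (by decide +kernel) ⟨MulEquiv.refl _⟩
  have : Finite Spor.Suz := Nat.finite_of_card_ne_zero (by rw [hc]; norm_num)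
  obtain ⟨e⟩ := h
  exact Finite.of_equiv _ e.symm.toEquiv

theorem exists_fourteen {K : Type u} [Group K] (h : Spor.IsoSuz K) : ∃ x : K, orderOf x = 2 * 7 := by
  obtain ⟨e⟩ := h
  have h7 : Fact (Nat.Prime 7) := ⟨by norm_num⟩
  have : Finite L := Nat.finite_of_card_ne_zero (by rw [card_L]; norm_num)
  obtain ⟨y, hy⟩ := exists_prime_orderOf_dvd_card' (G := L) 7 (by rw [card_L]; norm_num)
  have hy' : orderOf (y : Spor.Suz) = 7 := by rw [Subgroup.orderOf_coe]; exact hy
  have he : orderOf e0 = 2 := orderOf_eq_prime (by rw [pow_two]; exact e0_sq) e0_ne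
  have hc : Commute e0 (y : Spor.Suz) := e0_comm y y.2
  refine ⟨e.symm (e0 * y), ?_⟩
  rw [MulEquiv.orderOf_eq, hc.orderOf_mul_eq_mul_orderOf_of_coprime, he, hy']
  rw [he, hy']
  norm_num

/-- The elements of order 14 are `VZ` elements. -/
theorem exists_vz {K : Type u} [Group K] (h : Spor.IsoSuz K) : ∃ x : K, VZ K x ∧ orderOf x = 2 * 7 := by
  have : Finite K := finite h
  have : Fact (Nat.Prime 7) := ⟨by norm_num⟩
  obtain ⟨x, hx⟩ := exists_fourteen h
  exact ⟨x, HasDZ.vz (RankRows.suz (p := 7) h (Or.inl rfl)) (hx ▸ Dvd.intro_left _ rfl), hx⟩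

theorem good {K : Type u} [Group K] (h : Spor.IsoSuz K) : LieGood.Good K := by
  obtain ⟨x, hx, ho⟩ := exists_vz h
  exact LieGood.good_of_mixed hx (a := 2) (b := 7) (by norm_num) (by norm_num) (by norm_num)
    (ho ▸ Dvd.intro _ rfl) (ho ▸ Dvd.intro_left _ rfl)

theorem evMix {K : Type u} [Group K] (h : Spor.IsoSuz K) : H419.Row.EvMix K := by
  obtain ⟨x, hx, ho⟩ := exists_vz h
  exact H419.Row.evMix_of_order hx (by norm_num) (by norm_num) ho

theorem row {K : Type v} [Group K] (h : Spor.IsoSuz K) : Row.{u, v} K := by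
  have : Finite K := finite h
  have : Fact (Nat.Prime 7) := ⟨by norm_num⟩
  obtain ⟨x, hx⟩ := exists_fourteen h
  exact Row.of_dz (p := 7) (by norm_num) (RankRows.suz h (Or.inl rfl)) (y := x)
    (hx ▸ Dvd.intro_left _ rfl) (by rw [hx]; norm_num)

end Cfsg.Agent.H690.Spor.SuzRow
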